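import Mathlib.LinearAlgebra.BilinearForm.Properties
import Mathlib.Algebra.Order.BigOperators.Ring.Finset
import Mathlib.Algebra.Order.Ring.Int
import Mathlib.Tactic.Linarith
import Mathlib.Tactic.Ring
import Mathlib.Tactic.LinearCombination

/-!
# Integral solvability of the edge equations of a positive definite Cartan system
-/

namespace Groth.Agent.RootBaseSolve

variable {α : Type*} [DecidableEq α] {V : Type*} [AddCommGroup V]

/-- The hypotheses: a positive definite finite system with Cartan integers `A`. -/
structure Sys (B : LinearMap.BilinForm ℤ V) (T : Finset α) (v : α → V) (A : α → α → ℤ) : Prop where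
  symm : ∀ x y, B x y = B y x
  pd : ∀ c : α → ℤ, (∃ i ∈ T, c i ≠ 0) → 0 < B (∑ i ∈ T, c i • v i) (∑ i ∈ T, c i • v i)
  cartan : ∀ i ∈ T, ∀ j ∈ T, i ≠ j → 2 * B (v i) (v j) = A i j * B (v j) (v j)
  nonpos : ∀ i ∈ T, ∀ j ∈ T, i ≠ j → A i j ≤ 0

variable {B : LinearMap.BilinForm ℤ V} {T : Finset α} {v : α → V} {A : α → α → ℤ} (h : Sys B T v A)
include h

lemma len_pos {i : α} (hi : i ∈ T) : 0 < B (v i) (v i) := by
  have := h.pd (fun a => if a = i then 1 else 0) ⟨i, hi, by simp⟩
  simpa [ite_smul, hi] using this

lemma pair_pd {i j : α} (hi : i ∈ T) (hj : j ∈ T) (hij : i ≠ j) :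
    B (v i) (v j) * B (v i) (v j) < B (v i) (v i) * B (v j) (v j) := by
  set a := B (v j) (v j) with ha
  set b := - B (v i) (v j) with hb
  have hpos := h.pd (fun t => if t = i then a else if t = j then b else 0) ⟨i, hi, by simp [a, (len_pos h hj).ne']⟩
  have hs : ∑ t ∈ T, (if t = i then a else if t = j then b else 0) • v t = a • v i + b • v j := by
    rw [Finset.sum_eq_add i j hij (fun t _ ht => by simp [ht.1, ht.2]) (fun h' => absurd hi h') (fun h' => absurd hj h')]
    simp [hij.symm]
  rw [hs] at hpos
  simp only [map_add, map_smul, LinearMap.add_apply, LinearMap.smul_apply, smul_eq_mul, h.symm (v j) (v i)] at hpos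
  have hl := len_pos h hj
  rw [hb, ← ha] at hpos
  nlinarith

lemma prod_lt {i j : α} (hi : i ∈ T) (hj : j ∈ T) (hij : i ≠ j) : A i j * A j i < 4 := by
  have h1 := h.cartan i hi j hj hij
  have h2 := h.cartan j hj i hi hij.symm
  rw [h.symm (v j) (v i)] at h2
  have h3 := pair_pd h hi hj hij
  by_contra hc
  push Not at hc
  have h4 : A i j * A j i * (B (v i) (v i) * B (v j) (v j)) = 4 * (B (v i) (v j) * B (v i) (v j)) := by
    linear_combination -(2 * B (v i) (v j)) * h1 - (A i j * B (v j) (v j)) * h2
  have h5 : 0 < B (v i) (v i) * B (v j) (v j) := mul_pos (len_pos h hi) (len_pos h hj)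
  nlinarith

lemma zero_symm {i j : α} (hi : i ∈ T) (hj : j ∈ T) (hij : i ≠ j) (h0 : A i j = 0) : A j i = 0 := by
  have h1 := h.cartan i hi j hj hij
  have h2 := h.cartan j hj i hi hij.symm
  rw [h.symm (v j) (v i)] at h2
  rw [h0] at h1
  have : A j i * B (v i) (v i) = 0 := by linarith
  exact (mul_eq_zero.mp this).resolve_right (len_pos h hi).ne'

lemma matching (hno : ∀ i ∈ T, ∀ j ∈ T, i ≠ j → ¬ (A i j = -1 ∧ A j i = -1))
    {i j k : α} (hi : i ∈ T) (hj : j ∈ T) (hk : k ∈ T) (hji : j ≠ i) (hjk : j ≠ k)
    (h1 : A j i ≠ 0) (h2 : A j k ≠ 0) : i = k := by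
  by_contra hik
  have key : ∀ {a : α}, a ∈ T → j ≠ a → A j a ≠ 0 → 2 ≤ A j a * A a j := by
    intro a ha hja hne
    have n1 := h.nonpos j hj a ha hja
    have n2 := h.nonpos a ha j hj hja.symm
    have ne2 : A a j ≠ 0 := fun h0 => hne (zero_symm h ha hj hja.symm h0)
    have h' := hno j hj a ha hja
    by_contra hc
    push Not at hc
    have u1 : A j a ≤ -1 := by omega
    have u2 : A a j ≤ -1 := by omega
    have : A j a = -1 := by nlinarith [mul_nonneg (show 0 ≤ -1 - A j a by omega) (show 0 ≤ -1 - A a j by omega)]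
    have : A a j = -1 := by nlinarith [mul_nonneg (show 0 ≤ -1 - A j a by omega) (show 0 ≤ -1 - A a j by omega)]
    exact h' ⟨‹_›, ‹_›⟩
  have p1 := key hi hji h1
  have p2 := key hk hjk h2
  have hli := len_pos h hi
  have hlj := len_pos h hj
  have hlk := len_pos h hk
  set li := B (v i) (v i)
  set lj := B (v j) (v j)
  set lk := B (v k) (v k)
  set bi := B (v j) (v i)
  set bk := B (v j) (v k)
  set bik := B (v i) (v k)
  have hbi : bi ≤ 0 := by
    have := h.cartan j hj i hi hji; have := h.nonpos j hj i hi hji; nlinarith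
  have hbk : bk ≤ 0 := by
    have := h.cartan j hj k hk hjk; have := h.nonpos j hj k hk hjk; nlinarith
  have hbik : bik ≤ 0 := by
    have := h.cartan i hi k hk hik; have := h.nonpos i hi k hk hik; nlinarith
  have q : ∀ {a : α}, a ∈ T → j ≠ a →
      4 * (B (v j) (v a) * B (v j) (v a)) = A j a * A a j * (B (v a) (v a) * lj) := by
    intro a ha hja
    have e1 := h.cartan j hj a ha hja
    have e2 := h.cartan a ha j hj hja.symm
    rw [h.symm (v a) (v j)] at e2
    linear_combination (2 * B (v j) (v a)) * e1 + (A j a * B (v a) (v a)) * e2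
  have b1 : li * lj ≤ 2 * (bi * bi) := by
    have := q hi hji; have := mul_pos hli hlj; nlinarith
  have b2 : lk * lj ≤ 2 * (bk * bk) := by
    have := q hk hjk; have := mul_pos hlk hlj; nlinarith
  let c : α → ℤ := fun t => if t = j then li * lk else if t = i then -(bi * lk) else if t = k then -(bk * li) else 0
  have hpos := h.pd c ⟨j, hj, by simp [c, hli.ne', hlk.ne']⟩
  have hs : ∑ t ∈ T, c t • v t = (li * lk) • v j + (-(bi * lk)) • v i + (-(bk * li)) • v k := by
    have hsub : ({j, i, k} : Finset α) ⊆ T := by
      intro t ht; simp only [Finset.mem_insert, Finset.mem_singleton] at ht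
      rcases ht with rfl | rfl | rfl <;> assumption
    rw [← Finset.sum_subset hsub (fun t _ ht => by
      simp only [Finset.mem_insert, Finset.mem_singleton, not_or] at ht
      simp [c, ht.1, ht.2.1, ht.2.2])]
    rw [Finset.sum_insert (by simp [hji, hjk]), Finset.sum_insert (by simp [hik]), Finset.sum_singleton]
    simp [c, hji.symm, hjk.symm, Ne.symm hik, add_assoc]
  rw [hs] at hpos
  simp only [map_add, map_smul, LinearMap.add_apply, LinearMap.smul_apply, smul_eq_mul,
    h.symm (v i) (v j), h.symm (v k) (v j), h.symm (v k) (v i)] at hpos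
  have hcross : bi * bk * (li * lk) * bik ≤ 0 :=
    mul_nonpos_of_nonneg_of_nonpos (mul_nonneg (mul_nonneg_of_nonpos_of_nonpos hbi hbk) (mul_pos hli hlk).le) hbik
  have m1 := mul_le_mul_of_nonneg_left b1 (mul_nonneg hli.le (mul_self_nonneg lk))
  have m2 := mul_le_mul_of_nonneg_left b2 (mul_nonneg hlk.le (mul_self_nonneg li))
  nlinarith

omit h in
theorem solve (B : LinearMap.BilinForm ℤ V) : ∀ (n : ℕ) (T : Finset α) (v : α → V) (A : α → α → ℤ), T.card = n →
    Sys B T v A → ∀ e : α → α → ℤ, (∀ i ∈ T, ∀ j ∈ T, e j i = - e i j) →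
    ∃ c : α → ℤ, ∀ i ∈ T, ∀ j ∈ T, i ≠ j → A i j ≠ 0 → A i j * c i - A j i * c j = e i j := by
  intro n
  induction n using Nat.strongRecOn with
  | _ n ih =>
  intro T v A hcard h e he
  by_cases hs : ∃ i ∈ T, ∃ j ∈ T, i ≠ j ∧ A i j = -1 ∧ A j i = -1
  · obtain ⟨i, hi, j, hj, hij, a1, a2⟩ := hs
    let T' := T.erase j
    let v' : α → V := fun t => if t = i then v i + v j else v t
    let A' : α → α → ℤ := fun s t => if s = i then A i t + A j t else if t = i then A s i + A s j else A s t
    have hiT' : i ∈ T' := Finset.mem_erase.mpr ⟨hij, hi⟩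
    have hsub : ∀ {t}, t ∈ T' → t ∈ T ∧ t ≠ j := fun ht => ⟨Finset.mem_of_mem_erase ht, Finset.ne_of_mem_erase ht⟩
    have eii : B (v i) (v j) * 2 = -B (v j) (v j) := by
      have := h.cartan i hi j hj hij; rw [a1] at this; linarith
    have ejj : B (v i) (v j) * 2 = -B (v i) (v i) := by
      have := h.cartan j hj i hi hij.symm; rw [a2, h.symm] at this; linarith
    have hlen : B (v i + v j) (v i + v j) = B (v i) (v i) := by
      simp only [map_add, LinearMap.add_apply, h.symm (v j) (v i)]; linarith
    have hlen' : B (v j) (v j) = B (v i) (v i) := by linarith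
    have h' : Sys B T' v' A' := by
      refine ⟨h.symm, fun c hc => ?_, fun s hs t ht hst => ?_, fun s hs t ht hst => ?_⟩
      · let c' : α → ℤ := fun t => if t = j then c i else c t
        have e1 : ∑ t ∈ T, c' t • v t = ∑ t ∈ T', c t • v' t := by
          rw [← Finset.add_sum_erase T _ hj, ← Finset.add_sum_erase _ _ hiT', ← Finset.add_sum_erase _ (fun t => c t • v' t) hiT']
          have r : ∑ t ∈ T'.erase i, c' t • v t = ∑ t ∈ T'.erase i, c t • v' t :=
            Finset.sum_congr rfl fun t ht => by
              have h1 := Finset.ne_of_mem_erase ht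
              have h2 := (hsub (Finset.mem_of_mem_erase ht)).2
              simp [c', v', h1, h2]
          rw [r]
          simp only [c', v', if_true, if_neg hij, smul_add]
          abel
        rw [← e1]
        refine h.pd c' ?_
        obtain ⟨t, ht, hct⟩ := hc
        exact ⟨t, (hsub ht).1, by simpa [c', (hsub ht).2] using hct⟩
      · obtain ⟨hs1, hs2⟩ := hsub hs
        obtain ⟨ht1, ht2⟩ := hsub ht
        by_cases hsi : s = i
        · subst hsi
          simp only [v', A', if_true, if_neg (Ne.symm hst), map_add, LinearMap.add_apply]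
          linear_combination h.cartan s hs1 t ht1 hst + h.cartan j hj t ht1 (Ne.symm ht2)
        · by_cases hti : t = i
          · subst hti
            simp only [v', A', if_true, if_neg hsi, hlen]
            simp only [map_add]
            linear_combination h.cartan s hs1 t ht1 hst + h.cartan s hs1 j hj hs2 + A s j * hlen'
          · simp only [v', A', if_neg hsi, if_neg hti]
            exact h.cartan s hs1 t ht1 hst
      · obtain ⟨hs1, hs2⟩ := hsub hs
        obtain ⟨ht1, ht2⟩ := hsub ht
        by_cases hsi : s = i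
        · subst hsi
          simp only [A', if_true]
          linarith [h.nonpos s hs1 t ht1 hst, h.nonpos j hj t ht1 (Ne.symm ht2)]
        · by_cases hti : t = i
          · subst hti
            simp only [A', if_true, if_neg hsi]
            linarith [h.nonpos s hs1 t ht1 hst, h.nonpos s hs1 j hj hs2]
          · simp only [A', if_neg hsi, if_neg hti]
            exact h.nonpos s hs1 t ht1 hst
    have notri : ∀ z ∈ T', z ≠ i → A i z = 0 ∨ A j z = 0 := by
      intro z hz hzi
      obtain ⟨hz1, hz2⟩ := hsub hz
      by_contra hc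
      push Not at hc
      have p := prod_lt h' hiT' hz (Ne.symm hzi)
      simp only [A', if_true, if_neg hzi] at p
      have n1 := h.nonpos i hi z hz1 (Ne.symm hzi)
      have n2 := h.nonpos j hj z hz1 (Ne.symm hz2)
      have n3 := h.nonpos z hz1 i hi hzi
      have n4 := h.nonpos z hz1 j hj hz2
      have z3 : A z i ≠ 0 := fun h0 => hc.1 (zero_symm h hz1 hi hzi h0)
      have z4 : A z j ≠ 0 := fun h0 => hc.2 (zero_symm h hz1 hj hz2 h0)
      have u1 : A i z ≤ -1 := by have := hc.1; omega
      have u2 : A j z ≤ -1 := by have := hc.2; omega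
      have u3 : A z i ≤ -1 := by omega
      have u4 : A z j ≤ -1 := by omega
      nlinarith
    let δ : ℤ := e i j
    let f : α → ℤ := fun z => if A i z ≠ 0 then e i z else if A j z ≠ 0 then e j z - A j z * δ else 0
    let e' : α → α → ℤ := fun s t => if s = i then (if t = i then 0 else f t) else if t = i then - f s else e s t
    have he' : ∀ s ∈ T', ∀ t ∈ T', e' t s = - e' s t := by
      intro s hs t ht
      by_cases hsi : s = i <;> by_cases hti : t = i <;> simp [e', hsi, hti]
      exact he s (hsub hs).1 t (hsub ht).1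
    obtain ⟨c, hc⟩ := ih (T'.card) (by rw [← hcard]; exact Finset.card_erase_lt_of_mem hj) T' v' A' rfl h' e' he'
    refine ⟨fun t => if t = j then c i + δ else c t, ?_⟩
    have main : ∀ z ∈ T', z ≠ i → (A i z ≠ 0 → A i z * c i - A z i * c z = e i z) ∧
        (A j z ≠ 0 → A j z * (c i + δ) - A z j * c z = e j z) := by
      intro z hz hzi
      obtain ⟨hz1, hz2⟩ := hsub hz
      constructor
      · intro hne
        have hz0 : A j z = 0 := (notri z hz hzi).resolve_left hne
        have hzj : A z j = 0 := zero_symm h hj hz1 (Ne.symm hz2) hz0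
        have := hc i hiT' z hz (Ne.symm hzi) (by simp [A', hz0, hne])
        simpa [A', e', f, hzi, hz0, hzj, hne] using this
      · intro hne
        have hz0 : A i z = 0 := (notri z hz hzi).resolve_right hne
        have hzi' : A z i = 0 := zero_symm h hi hz1 (Ne.symm hzi) hz0
        have := hc i hiT' z hz (Ne.symm hzi) (by simp [A', hz0, hne])
        simp [A', e', f, hzi, hz0, hzi', hne] at this
        linear_combination this
    intro s hs t ht hst hA
    simp only []
    rcases eq_or_ne s j with hsj | hsj
    · subst hsj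
      rw [if_pos rfl, if_neg hst.symm]
      rcases eq_or_ne t i with hti | hti
      · subst hti
        rw [a2, a1, he t hi s hj]
        show -1 * (c t + e t s) - -1 * c t = - e t s
        ring
      · exact (main t (Finset.mem_erase.mpr ⟨hst.symm, ht⟩) hti).2 hA
    rw [if_neg hsj]
    have hsT' : s ∈ T' := Finset.mem_erase.mpr ⟨hsj, hs⟩
    rcases eq_or_ne t j with htj | htj
    · subst htj
      rw [if_pos rfl]
      rcases eq_or_ne s i with hsi | hsi
      · subst hsi
        rw [a1, a2]
        show -1 * c s - -1 * (c s + e s t) = e s t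
        ring
      · have hA' : A t s ≠ 0 := fun h0 => hA (zero_symm h ht hs (Ne.symm hst) h0)
        have := (main s hsT' hsi).2 hA'
        rw [he s hs t ht] at this
        linarith
    rw [if_neg htj]
    have htT' : t ∈ T' := Finset.mem_erase.mpr ⟨htj, ht⟩
    rcases eq_or_ne s i with hsi | hsi
    · subst hsi
      exact (main t htT' hst.symm).1 hA
    rcases eq_or_ne t i with hti | hti
    · subst hti
      have hA' : A t s ≠ 0 := fun h0 => hA (zero_symm h ht hs (Ne.symm hst) h0)
      have := (main s hsT' hsi).1 hA'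
      rw [he s hs t ht] at this
      linarith
    have := hc s hsT' t htT' hst (by simpa [A', hsi, hti] using hA)
    simpa [A', e', hsi, hti] using this
  · push Not at hs
    have hno : ∀ i ∈ T, ∀ j ∈ T, i ≠ j → ¬ (A i j = -1 ∧ A j i = -1) :=
      fun i hi j hj hij hh => hs i hi j hj hij hh.1 hh.2
    classical
    let c : α → ℤ := fun i => if hx : ∃ j ∈ T, i ≠ j ∧ A i j = -1 then -e i hx.choose else 0
    refine ⟨c, fun i hi j hj hij hA => ?_⟩
    have hA' : A j i ≠ 0 := fun h0 => hA (zero_symm h hj hi hij.symm h0)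
    have hp := prod_lt h hi hj hij
    have n1 := h.nonpos i hi j hj hij
    have n2 := h.nonpos j hj i hi hij.symm
    have hor : A i j = -1 ∨ A j i = -1 := by
      by_contra hc; push Not at hc
      have : A i j ≤ -2 := by omega
      have : A j i ≤ -2 := by omega
      nlinarith
    rcases hor with h1 | h1
    · have hx : ∃ j ∈ T, i ≠ j ∧ A i j = -1 := ⟨j, hj, hij, h1⟩
      have hu : hx.choose = j := matching h hno hx.choose_spec.1 hi hj hx.choose_spec.2.1 hij
        (by rw [hx.choose_spec.2.2]; norm_num) hA
      have hc0 : c j = 0 := by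
        refine dif_neg fun hy => ?_
        obtain ⟨k, hk, hjk, hk1⟩ := hy
        have hki : i = k := matching h hno hi hj hk hij.symm hjk hA' (by rw [hk1]; norm_num)
        subst hki
        exact hno i hi j hj hij ⟨h1, hk1⟩
      rw [hc0, show c i = -e i j by simp only [c, dif_pos hx, hu], h1]
      ring
    · have hx : ∃ k ∈ T, j ≠ k ∧ A j k = -1 := ⟨i, hi, hij.symm, h1⟩
      have hu : hx.choose = i := matching h hno hx.choose_spec.1 hj hi hx.choose_spec.2.1 hij.symm
        (by rw [hx.choose_spec.2.2]; norm_num) hA'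
      have hc0 : c i = 0 := by
        refine dif_neg fun hy => ?_
        obtain ⟨k, hk, hik, hk1⟩ := hy
        have hki : j = k := matching h hno hj hi hk hij hik hA (by rw [hk1]; norm_num)
        subst hki
        exact hno i hi j hj hij ⟨hk1, h1⟩
      rw [hc0, show c j = -e j i by simp only [c, dif_pos hx, hu], h1, he i hi j hj]
      ring

end Groth.Agent.RootBaseSolve
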