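import Mathlib.LinearAlgebra.RootSystem.Base
import Mathlib.LinearAlgebra.RootSystem.WeylGroup
import Mathlib.LinearAlgebra.RootSystem.Finite.Lemmas
import Mathlib.LinearAlgebra.RootSystem.Finite.CanonicalBilinear

/-!
# The Weyl group and bases of a reduced crystallographic root pairing
-/

noncomputable section

open scoped Classical

set_option linter.unusedSectionVars false

namespace Groth.Agent.RootBase

variable {ι R M N : Type*} [CommRing R] [AddCommGroup M] [Module R M] [AddCommGroup N] [Module R N]
  {P : RootPairing ι R M N}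

lemma root_smul (g : P.Aut) (i : ι) : P.root (g • i) = g • P.root i :=
  RootPairing.Equiv.root_indexEquiv_eq_smul P i g

lemma reflection_smul_idx (i j : ι) : RootPairing.Equiv.reflection P i • j = P.reflectionPerm i j :=
  rfl

lemma reflection_mul_self (i : ι) :
    RootPairing.Equiv.reflection P i * RootPairing.Equiv.reflection P i = 1 := by
  rw [mul_eq_one_iff_inv_eq, RootPairing.Equiv.reflection_inv]

lemma aut_ext {g h : P.Aut} (e : ∀ x : M, g • x = h • x) : g = h :=
  RootPairing.Equiv.weightHom_injective P (LinearEquiv.ext e)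

lemma reflection_perm (j i : ι) : RootPairing.Equiv.reflection P (P.reflectionPerm j i) =
    RootPairing.Equiv.reflection P j * RootPairing.Equiv.reflection P i *
      RootPairing.Equiv.reflection P j := by
  refine aut_ext fun x => ?_
  simp only [mul_smul, RootPairing.Equiv.reflection_smul, RootPairing.reflection_reflectionPerm]
  rfl

lemma neg_perm (g : P.Aut) (i : ι) :
    g • P.reflectionPerm i i = P.reflectionPerm (g • i) (g • i) := by
  apply P.root.injective
  rw [root_smul, show P.root (P.reflectionPerm i i) = -P.root i by simp, smul_neg, ← root_smul]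
  simp

variable [CharZero R] [IsDomain R] [Finite ι] [P.IsCrystallographic] [P.IsReduced] (b : P.Base)

/-- The product of a word of reflections. -/
def word (P : RootPairing ι R M N) (l : List ι) : P.Aut :=
  (l.map fun a => RootPairing.Equiv.reflection P a).prod

lemma word_cons (a : ι) (l : List ι) :
    word P (a :: l) = RootPairing.Equiv.reflection P a * word P l := by simp [word]

lemma word_append (l l' : List ι) : word P (l ++ l') = word P l * word P l' := by simp [word]

lemma conj_word (l : List ι) (j : ι) :
    RootPairing.Equiv.reflection P (word P l • j) =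
      word P l * RootPairing.Equiv.reflection P j * (word P l)⁻¹ := by
  induction l with
  | nil => simp [word]
  | cons a t ih =>
    rw [word_cons, mul_smul, reflection_smul_idx, reflection_perm, ih, mul_inv_rev,
      RootPairing.Equiv.reflection_inv]
    group

lemma isPos_neg_iff (i : ι) : b.IsPos (P.reflectionPerm i i) ↔ ¬ b.IsPos i :=
  RootPairing.Base.IsPos.neg_iff_not b i

lemma isPos_perm {j i : ι} (hj : j ∈ b.support) (hi : b.IsPos i) :
    ¬ b.IsPos (P.reflectionPerm j i) ↔ i = j := by
  refine ⟨fun h => ?_, fun h => ?_⟩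
  · by_contra hne
    exact h (hi.reflectionPerm hj hne)
  · subst h
    rw [isPos_neg_iff, not_not]
    exact hi

/-- The exchange lemma. -/
lemma shorten : ∀ (l : List ι) (j : ι), (∀ a ∈ l, a ∈ b.support) → j ∈ b.support →
    ¬ b.IsPos (word P l • j) → ∃ l' : List ι, (∀ a ∈ l', a ∈ b.support) ∧ l'.length + 1 = l.length ∧
      word P l' = word P l * RootPairing.Equiv.reflection P j := by
  intro l
  induction l with
  | nil => exact fun j _ hj h => absurd (RootPairing.Base.isPos_of_mem_support hj) (by simpa [word] using h)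
  | cons a t ih =>
    intro j hl hj h
    have ha : a ∈ b.support := hl a (by simp)
    have ht : ∀ c ∈ t, c ∈ b.support := fun c hc => hl c (by simp [hc])
    by_cases hp : b.IsPos (word P t • j)
    · rw [word_cons, mul_smul, reflection_smul_idx, isPos_perm b ha hp] at h
      refine ⟨t, ht, by simp, ?_⟩
      have e := conj_word (P := P) t j
      rw [h] at e
      have e' : RootPairing.Equiv.reflection P a * word P t =
          word P t * RootPairing.Equiv.reflection P j := by rw [e]; group
      rw [word_cons, e', mul_assoc, reflection_mul_self, mul_one]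
    · obtain ⟨l', h1, h2, h3⟩ := ih j ht hj hp
      refine ⟨a :: l', fun c hc => ?_, by simp [← h2], by rw [word_cons, word_cons, h3, mul_assoc]⟩
      rcases List.mem_cons.mp hc with rfl | hc
      · exact ha
      · exact h1 c hc

/-- The subgroup generated by the simple reflections. -/
def simpleGroup : Subgroup P.Aut :=
  Subgroup.closure ((fun i : ι => RootPairing.Equiv.reflection P i) '' (b.support : Set ι))

lemma word_mem {l : List ι} (h : ∀ a ∈ l, a ∈ b.support) : word P l ∈ simpleGroup b :=
  list_prod_mem (fun x hx => by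
    obtain ⟨a, ha, rfl⟩ := List.mem_map.mp hx
    exact Subgroup.subset_closure ⟨a, h a ha, rfl⟩)

lemma exists_word {g : P.Aut} (hg : g ∈ simpleGroup b) :
    ∃ l : List ι, (∀ a ∈ l, a ∈ b.support) ∧ word P l = g := by
  induction hg using Subgroup.closure_induction'' with
  | one => exact ⟨[], by simp, by simp [word]⟩
  | mem x hx => obtain ⟨a, ha, rfl⟩ := hx; exact ⟨[a], by simpa using ha, by simp [word]⟩
  | inv_mem x hx =>
    obtain ⟨a, ha, rfl⟩ := hx
    exact ⟨[a], by simpa using ha, by simp [word]⟩
  | mul x y _ _ hx hy =>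
    obtain ⟨l, hl, rfl⟩ := hx
    obtain ⟨l', hl', rfl⟩ := hy
    exact ⟨l ++ l', fun a ha => (List.mem_append.mp ha).elim (hl a) (hl' a), word_append l l'⟩

lemma reflection_mem_and_conj (i : ι) :
    RootPairing.Equiv.reflection P i ∈ simpleGroup b ∧
      ∃ g ∈ simpleGroup b, ∃ j ∈ b.support, g • j = i := by
  have hs : ∀ j ∈ b.support, RootPairing.Equiv.reflection P j ∈ simpleGroup b :=
    fun j hj => Subgroup.subset_closure ⟨j, hj, rfl⟩
  refine b.induction_reflect i (p := fun i => RootPairing.Equiv.reflection P i ∈ simpleGroup b ∧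
    ∃ g ∈ simpleGroup b, ∃ j ∈ b.support, g • j = i) ?_ ?_ ?_
  · rintro k ⟨h, g, hg, j, hj, rfl⟩
    refine ⟨?_, RootPairing.Equiv.reflection P (g • j) * g, mul_mem h hg, j, hj, ?_⟩
    · rw [reflection_perm, reflection_mul_self, one_mul]; exact h
    · rw [mul_smul, reflection_smul_idx]
  · exact fun j hj => ⟨hs j hj, 1, one_mem _, j, hj, one_smul _ _⟩
  · rintro k a ⟨h, g, hg, j, hj, rfl⟩ ha
    refine ⟨?_, RootPairing.Equiv.reflection P a * g, mul_mem (hs a ha) hg, j, hj, ?_⟩
    · rw [reflection_perm]; exact mul_mem (mul_mem (hs a ha) h) (hs a ha)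
    · rw [mul_smul, reflection_smul_idx]

theorem simpleGroup_eq : simpleGroup b = P.weylGroup := by
  refine le_antisymm (Subgroup.closure_mono (Set.image_subset_range _ _)) ?_
  rw [RootPairing.weylGroup, Subgroup.closure_le]
  rintro _ ⟨i, rfl⟩
  exact (reflection_mem_and_conj b i).1

theorem eq_one_of_pos {g : P.Aut} (hg : g ∈ P.weylGroup)
    (hpos : ∀ i, b.IsPos i → b.IsPos (g • i)) : g = 1 := by
  rw [← simpleGroup_eq b] at hg
  have H : ∀ n, ∀ l : List ι, (∀ a ∈ l, a ∈ b.support) → l.length = n → word P l = g → g = 1 := by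
    intro n
    induction n using Nat.strongRecOn with
    | ind n ih =>
      intro l hl hn hlg
      rcases List.eq_nil_or_concat l with rfl | ⟨t, j, rfl⟩
      · simpa [word] using hlg.symm
      · have hj : j ∈ b.support := hl j (by simp)
        have ht : ∀ a ∈ t, a ∈ b.support := fun a ha => hl a (by simp [ha])
        have hjp : b.IsPos j := RootPairing.Base.isPos_of_mem_support hj
        have e : word P t * RootPairing.Equiv.reflection P j = g := by
          rw [← hlg, List.concat_eq_append, word_append]; simp [word]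
        have hneg : ¬ b.IsPos (word P t • j) := by
          have := hpos j hjp
          rw [← e, mul_smul, reflection_smul_idx, neg_perm, isPos_neg_iff] at this
          exact this
        obtain ⟨l', h1, h2, h3⟩ := shorten b t j ht hj hneg
        exact ih l'.length (by simp [List.concat_eq_append] at hn; omega) l' h1 rfl (h3.trans e)
  obtain ⟨l, hl, hlg⟩ := exists_word b hg
  exact H _ l hl rfl hlg

lemma mem_support_iff (i : ι) : i ∈ b.support ↔ b.IsPos i ∧
    ∀ j k, b.IsPos j → b.IsPos k → P.root i ≠ P.root j + P.root k := by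
  refine ⟨fun hi => ⟨RootPairing.Base.isPos_of_mem_support hi, fun j k hj hk e => ?_⟩, ?_⟩
  · have := b.height_add e
    rw [b.height_one_of_mem_support hi] at this
    rw [RootPairing.Base.isPos_iff] at hj hk
    lia
  · rintro ⟨hi, h⟩
    by_contra hns
    obtain ⟨j, hj, hj'⟩ := hi.exists_mem_support_pos_pairingIn
    rw [P.zero_lt_pairingIn_iff'] at hj'
    have hne : i ≠ j := fun e => hns (e ▸ hj)
    obtain ⟨k, hk⟩ := P.root_sub_root_mem_of_pairingIn_pos hj' hne
    exact h k j (hi.sub hj hk) (RootPairing.Base.isPos_of_mem_support hj) (by rw [hk]; abel)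

lemma pos_of_pos_simple {b' : P.Base} {g : P.Aut} (h : ∀ j ∈ b.support, b'.IsPos (g • j)) {i : ι}
    (hi : b.IsPos i) : b'.IsPos (g • i) :=
  hi.induction_on_add (p := fun i => b'.IsPos (g • i)) h fun a j k e ha hj =>
    ha.add (h j hj) (by rw [root_smul, root_smul, root_smul, e, smul_add])

lemma image_support {b' : P.Base} {g : P.Aut} (h : ∀ i, b.IsPos i → b'.IsPos (g • i)) :
    (fun i : ι => g • i) '' (b.support : Set ι) = (b'.support : Set ι) := by
  have hiff : ∀ i, b.IsPos i ↔ b'.IsPos (g • i) := fun i => ⟨h i, fun hi => by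
    by_contra hn
    have := h _ ((isPos_neg_iff b i).mpr hn)
    rw [neg_perm, isPos_neg_iff] at this
    exact this hi⟩
  ext k
  have hk : k ∈ b'.support ↔ g⁻¹ • k ∈ b.support := by
    rw [mem_support_iff b', mem_support_iff b, hiff, smul_inv_smul]
    refine and_congr_right fun _ => ⟨fun H j l hj hl e => ?_, fun H j l hj hl e => ?_⟩
    · refine H (g • j) (g • l) ((hiff j).mp hj) ((hiff l).mp hl) ?_
      rw [root_smul, root_smul, ← smul_add, ← e, ← root_smul, smul_inv_smul]
    · refine H (g⁻¹ • j) (g⁻¹ • l) ((hiff _).mpr (by rwa [smul_inv_smul]))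
        ((hiff _).mpr (by rwa [smul_inv_smul])) ?_
      rw [root_smul, root_smul, root_smul, e, smul_add]
  constructor
  · rintro ⟨i, hi, rfl⟩
    exact hk.mpr (by simpa using hi)
  · exact fun h => ⟨g⁻¹ • k, hk.mp h, smul_inv_smul g k⟩

theorem exists_unique_weyl (b' : P.Base) : ∃! g : P.weylGroup,
    (fun i : ι => (g : P.Aut) • i) '' (b.support : Set ι) = (b'.support : Set ι) := by
  have := Fintype.ofFinite ι
  have hex : ∀ n, ∀ g ∈ P.weylGroup,
      (Finset.univ.filter fun i => b.IsPos i ∧ ¬ b'.IsPos (g • i)).card = n →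
      ∃ h ∈ P.weylGroup, ∀ i, b.IsPos i → b'.IsPos (h • i) := by
    intro n
    induction n using Nat.strongRecOn with
    | ind n ih =>
      intro g hg hn
      by_cases hall : ∀ j ∈ b.support, b'.IsPos (g • j)
      · exact ⟨g, hg, fun i hi => pos_of_pos_simple b hall hi⟩
      push Not at hall
      obtain ⟨j, hj, hjn⟩ := hall
      refine ih _ ?_ (g * RootPairing.Equiv.reflection P j)
        (mul_mem hg (P.reflection_mem_weylGroup j)) rfl
      rw [← hn]
      have hjp := RootPairing.Base.isPos_of_mem_support hj
      have hsub : (Finset.univ.filter fun i => b.IsPos i ∧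
          ¬ b'.IsPos ((g * RootPairing.Equiv.reflection P j) • i)).image (P.reflectionPerm j) ⊆
          (Finset.univ.filter fun i => b.IsPos i ∧ ¬ b'.IsPos (g • i)).erase j := by
        intro x hx
        simp only [Finset.mem_image, Finset.mem_filter, Finset.mem_univ, true_and, mul_smul,
          reflection_smul_idx] at hx
        obtain ⟨i, ⟨hi, hi'⟩, rfl⟩ := hx
        have hne : i ≠ j := by
          rintro rfl
          rw [neg_perm, isPos_neg_iff, not_not] at hi'
          exact hjn hi'
        simp only [Finset.mem_erase, Finset.mem_filter, Finset.mem_univ, true_and]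
        refine ⟨fun e => ?_, hi.reflectionPerm hj hne, hi'⟩
        have : i = P.reflectionPerm j j := by
          rw [← P.reflectionPerm_self j i, e]
        exact (isPos_neg_iff b j).mp (this ▸ hi) hjp
      have := Finset.card_le_card hsub
      rw [Finset.card_image_of_injective _ (P.reflectionPerm j).injective,
        Finset.card_erase_of_mem (by simp [hjp, hjn])] at this
      have : 0 < (Finset.univ.filter fun i => b.IsPos i ∧ ¬ b'.IsPos (g • i)).card :=
        Finset.card_pos.mpr ⟨j, by simp [hjp, hjn]⟩
      omega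
  obtain ⟨h, hh, hpos⟩ := hex _ 1 (one_mem _) rfl
  refine ⟨⟨h, hh⟩, image_support b hpos, ?_⟩
  rintro ⟨g, hg⟩ (himg : _ = _)
  have hg' : ∀ i, b.IsPos i → b'.IsPos (g • i) := fun i hi =>
    pos_of_pos_simple b (fun j hj => RootPairing.Base.isPos_of_mem_support
      (himg ▸ ⟨j, hj, rfl⟩ : g • j ∈ (b'.support : Set ι))) hi
  have : h⁻¹ * g = 1 := eq_one_of_pos b (mul_mem (inv_mem hh) hg) fun i hi => by
    by_contra hn
    have := hpos _ ((isPos_neg_iff b _).mpr hn)
    rw [neg_perm, isPos_neg_iff, ← mul_smul, mul_inv_cancel_left] at this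
    exact this (hg' i hi)
  exact Subtype.ext (inv_mul_eq_one.mp this).symm

theorem reflection_sum_pos [Fintype ι] {j : ι} (hj : j ∈ b.support) :
    P.reflection j (∑ i, if b.IsPos i then P.root i else 0) =
      (∑ i, if b.IsPos i then P.root i else 0) - (2 : R) • P.root j := by
  have hjp := RootPairing.Base.isPos_of_mem_support hj
  have hnj : ¬ b.IsPos (P.reflectionPerm j j) := fun h => (isPos_neg_iff b j).mp h hjp
  set p : Finset ι := Finset.univ.filter b.IsPos
  have hjm : j ∈ p := Finset.mem_filter.mpr ⟨Finset.mem_univ _, hjp⟩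
  rw [← Finset.sum_filter, ← Finset.add_sum_erase p _ hjm, map_add, map_sum]
  have e : ∑ i ∈ p.erase j, P.reflection j (P.root i) = ∑ i ∈ p.erase j, P.root i := by
    refine Finset.sum_nbij' (P.reflectionPerm j) (P.reflectionPerm j) ?_ ?_
      (fun i _ => P.reflectionPerm_self j i) (fun i _ => P.reflectionPerm_self j i)
      (fun i _ => (P.root_reflectionPerm j i).symm) <;>
    · intro i hi
      simp only [Finset.coe_erase, Set.mem_diff, Finset.mem_coe, Finset.mem_erase, p,
        Finset.mem_filter, Finset.mem_univ, true_and, Set.mem_singleton_iff] at hi ⊢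
      have hi' : b.IsPos i ∧ i ≠ j := by tauto
      have h1 := hi'.1.reflectionPerm hj hi'.2
      have h2 : P.reflectionPerm j i ≠ j := fun e => by
        have : i = P.reflectionPerm j j := by rw [← P.reflectionPerm_self j i, e]
        exact hnj (this ▸ hi'.1)
      tauto
  rw [e, RootPairing.reflection_apply_self, two_smul]
  abel

end Groth.Agent.RootBase
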